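import Groth.Agent.CotTLib.SmoothField
import Groth.Agent.RegLoc6.Basic
import Groth.Agent.GeomReg.Basic
import Groth.Agent.VarDim.Basic
import Groth.Agent.SmoothReg.Omega
import Mathlib.RingTheory.Spectrum.Prime.FreeLocus

/-! Regular algebras of finite type over an algebraically closed field and their differentials. -/

set_option autoImplicit false
universe u

namespace Groth.Agent.SmoothVarLib

open TensorProduct Order

variable (k : Type u) [Field k] (A : Type u) [CommRing A] [Algebra k A] [Algebra.FiniteType k A]

theorem smooth_of_regular [IsAlgClosed k] [IsRegularRing A] : Algebra.Smooth k A :=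
  CotTLib.smooth_of_isSmoothAt_maximal fun m _ =>
    CotTLib.isSmoothAt_of_isRegularLocalRing m (IsRegularRing.isRegularLocalRing_localization m)

omit [Algebra k A] [Algebra.FiniteType k A] in
theorem isReduced_of_regular_maximal
    (h : ∀ (m : Ideal A) [m.IsMaximal], IsRegularLocalRing (Localization.AtPrime m)) : IsReduced A :=
  isReduced_ofLocalizationMaximal A fun m _ => by
    haveI := h m
    haveI := RegLoc6.isDomain_of_isRegularLocalRing (Localization.AtPrime m)
    infer_instance

omit [Algebra k A] [Algebra.FiniteType k A] in
theorem isDomain_of_regular [IsRegularRing A] (hirr : (nilradical A).IsPrime) : IsDomain A := by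
  haveI := isReduced_of_regular_maximal A fun m _ =>
    IsRegularRing.isRegularLocalRing_localization m
  rw [nilradical_eq_zero] at hirr
  exact (IsDomain.of_bot_isPrime A (hbp := hirr))

include k in
/-- The local ring at a closed point of an irreducible affine variety has the full dimension. -/
theorem ringKrullDim_localization_maximal (hirr : (nilradical A).IsPrime) (n : ℕ)
    (hn : ringKrullDim A = n) (m : Ideal A) [m.IsMaximal] :
    ringKrullDim (Localization.AtPrime m) = n := by
  haveI := hirr
  haveI : IsDomain (A ⧸ nilradical A) := Ideal.Quotient.isDomain _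
  let π := Ideal.Quotient.mk (nilradical A)
  have hπ : Function.Surjective π := Ideal.Quotient.mk_surjective
  let e : PrimeSpectrum (A ⧸ nilradical A) ≃o PrimeSpectrum A :=
    RelIso.mk (Equiv.ofBijective (PrimeSpectrum.comap π)
      ⟨PrimeSpectrum.comap_injective_of_surjective π hπ, fun q => ⟨⟨q.asIdeal.map π,
        Ideal.map_isPrime_of_surjective hπ (by rw [Ideal.mk_ker]; exact nilradical_le_prime _)⟩,
        PrimeSpectrum.ext (by
          show (q.asIdeal.map π).comap π = q.asIdeal
          rw [Ideal.comap_map_of_surjective π hπ, ← RingHom.ker_eq_comap_bot, Ideal.mk_ker,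
            sup_eq_left]
          exact nilradical_le_prime _)⟩⟩)
      (Ideal.comap_le_comap_iff_of_surjective π hπ _ _)
  have hn' : ringKrullDim (A ⧸ nilradical A) = n := by
    rw [← hn]; exact Order.krullDim_eq_of_orderIso e
  let p : PrimeSpectrum A := ⟨m, inferInstance⟩
  have h := VarDim.height_add_coheight_eq k n (A ⧸ nilradical A) hn' (e.symm p)
  rw [Order.height_orderIso, Order.coheight_orderIso] at h
  have hc : coheight p = 0 := coheight_eq_zero.2 fun Q hQ =>
    (PrimeSpectrum.ext ((‹m.IsMaximal›).eq_of_le Q.isPrime.ne_top hQ)).ge
  rw [hc, add_zero] at h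
  rw [IsLocalization.AtPrime.ringKrullDim_eq_height m,
    show m.height = Order.height p from p.height_eq_orderHeight]
  rw [h]; rfl

omit [Algebra.FiniteType k A] in
theorem finrank_residueField_tensor (M : Type u) [AddCommGroup M] [Module A M] [Module.Finite A M]
    [Module.Projective A M] (P : Ideal A) [P.IsPrime] :
    Module.finrank P.ResidueField (P.ResidueField ⊗[A] M) =
      Module.rankAtStalk M ⟨P, ‹_›⟩ := by
  haveI : Module.Free (Localization.AtPrime P) (Localization.AtPrime P ⊗[A] M) :=
    Module.free_of_flat_of_isLocalRing
  rw [Module.rankAtStalk_eq_finrank_tensorProduct,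
    ← (TensorProduct.AlgebraTensorModule.cancelBaseChange A (Localization.AtPrime P) P.ResidueField
      P.ResidueField M).finrank_eq, Module.finrank_baseChange]

end Groth.Agent.SmoothVarLib
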